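import Groth.Agent.S14666
import Groth.Agent.CubeLib.GlobalSec

/-!
# Bijectivity of `f^*` on all opens: flat base change, and gluing of factorisations
-/

set_option autoImplicit false
set_option backward.isDefEq.respectTransparency.types false

universe u

open CategoryTheory CategoryTheory.Limits AlgebraicGeometry Opposite TopologicalSpace

namespace Groth.Agent.CohDer1.Blanchard

/-- Bijectivity of `f^*` is local on the target, version for a basis. -/
theorem bijective_app_of_basis {S R : Scheme.{u}} (f : S ⟶ R) (B : Set R.Opens)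
    (hB : ∀ (V : R.Opens), ∀ x ∈ V, ∃ W ∈ B, x ∈ W ∧ W ≤ V)
    (h : ∀ W ∈ B, Function.Bijective (f.app W)) (V : R.Opens) :
    Function.Bijective (f.app V) := by
  let U : {W : B // W.1 ≤ V} → R.Opens := fun W => W.1.1
  have hU : ∀ W, U W ≤ V := fun W => W.2
  have hcov : V ≤ iSup U := fun x hx => by
    obtain ⟨W, hW, hxW, hWV⟩ := hB V x hx
    exact Opens.mem_iSup.2 ⟨⟨⟨W, hW⟩, hWV⟩, hxW⟩
  have hnat : ∀ {V V' : R.Opens} (hle : V' ≤ V) (r : Γ(R, V)), f.app V' (R.presheaf.map (homOfLE hle).op r) =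
      S.presheaf.map (homOfLE ((Opens.map f.base).monotone hle)).op (f.app V r) := fun hle r =>
    congr($(f.naturality (homOfLE hle).op) r)
  have hinj : ∀ V : R.Opens, Function.Injective (f.app V) := fun V => by
    intro a b hab
    refine TopCat.Sheaf.eq_of_locally_eq' R.sheaf (fun W : {W : B // W.1 ≤ V} => W.1.1) V
      (fun W => homOfLE W.2) (fun x hx => by
        obtain ⟨W, hW, hxW, hWV⟩ := hB V x hx
        exact Opens.mem_iSup.2 ⟨⟨⟨W, hW⟩, hWV⟩, hxW⟩) a b fun W => (h _ W.1.2).1 ?_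
    exact ((hnat W.2 a).trans (congrArg _ hab)).trans (hnat W.2 b).symm
  refine ⟨hinj V, fun s => ?_⟩
  choose c hc using fun W => (h _ W.1.2).2 (S.presheaf.map (homOfLE ((Opens.map f.base).monotone (hU W))).op s)
  obtain ⟨g, hg, -⟩ := TopCat.Sheaf.existsUnique_gluing' R.sheaf U V (fun W => homOfLE (hU W)) hcov c (fun W W' => by
    refine hinj _ ?_
    show f.app _ (R.presheaf.map (homOfLE inf_le_left).op _) = f.app _ (R.presheaf.map (homOfLE inf_le_right).op _)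
    rw [hnat, hnat, hc, hc, ← ConcreteCategory.comp_apply, ← ConcreteCategory.comp_apply, ← Functor.map_comp,
      ← Functor.map_comp]
    rfl)
  refine ⟨g, TopCat.Sheaf.eq_of_locally_eq' S.sheaf (fun W => f ⁻¹ᵁ U W) _
    (fun W => homOfLE ((Opens.map f.base).monotone (hU W)))
    (fun x hx => Opens.mem_iSup.2 ((Opens.mem_iSup.1 (hcov hx)).imp fun _ h => h)) _ _ fun W => ?_⟩
  exact (hnat (hU W) g).symm.trans ((congrArg (f.app (U W)) (hg W)).trans (hc W))

/-- `O → f_*O` bijective is stable under flat base change (qcqs). -/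
theorem bijective_app_of_isPullback {X Y X' Y' : Scheme.{u}} {g' : X' ⟶ X} {f' : X' ⟶ Y'} {f : X ⟶ Y}
    {g : Y' ⟶ Y} (H : IsPullback g' f' f g) [QuasiCompact f] [QuasiSeparated f] [Flat g]
    (hf : ∀ U : Y.Opens, Function.Bijective (f.app U)) (U : Y'.Opens) : Function.Bijective (f'.app U) := by
  let B : Set Y'.Opens := {W | IsAffineOpen W ∧ ∃ V : Y.Opens, IsAffineOpen V ∧ W ≤ g ⁻¹ᵁ V}
  refine bijective_app_of_basis f' B (fun V x hx => ?_) (fun W hW => ?_) U
  · obtain ⟨V₀, hV₀, hxV₀, -⟩ := exists_isAffineOpen_mem_and_subset (x := g x) (U := ⊤) trivial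
    obtain ⟨W, hW, hxW, hWV⟩ := exists_isAffineOpen_mem_and_subset (x := x) (U := V ⊓ g ⁻¹ᵁ V₀) ⟨hx, hxV₀⟩
    exact ⟨W, ⟨hW, V₀, hV₀, fun z hz => (hWV hz).2⟩, hxW, fun z hz => (hWV hz).1⟩
  · obtain ⟨hW, V, hV, hle⟩ := hW
    have hc : IsCompact ((f ⁻¹ᵁ V : X.Opens) : Set X) :=
      f.isCompact_preimage hV.isCompact
    have hs : IsQuasiSeparated ((f ⁻¹ᵁ V : X.Opens) : Set X) :=
      f.isQuasiSeparated_preimage hV.isQuasiSeparated
    have hUY : f' ⁻¹ᵁ W = g' ⁻¹ᵁ (f ⁻¹ᵁ V) ⊓ f' ⁻¹ᵁ W := by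
      refine le_antisymm (fun z hz => ⟨?_, hz⟩) inf_le_right
      show f (g' z) ∈ V
      rw [← Scheme.Hom.comp_apply, H.w, Scheme.Hom.comp_apply]
      exact hle hz
    have hi := isIso_pushoutSection_of_isQuasiSeparated_of_flat_right H (US := V) (UT := W) (UX := f ⁻¹ᵁ V)
      (UY := f' ⁻¹ᵁ W) hle le_rfl hUY hV hW hc hs
    have hp := (isIso_pushoutSection_iff ..).1 hi
    have hI : IsIso (f.appLE V (f ⁻¹ᵁ V) le_rfl) := by
      rw [Scheme.Hom.appLE_eq_app, ConcreteCategory.isIso_iff_bijective]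
      exact hf V
    have := hp.isIso_inr_of_isIso hI
    have h2 := ConcreteCategory.bijective_of_isIso (f'.appLE W _ le_rfl)
    rwa [Scheme.Hom.appLE_eq_app] at h2

open Groth.Agent.S14666 in
/-- A morphism constant on the fibres of `ξ` factors through `ξ`, if `ξ` is proper and surjective with `O = ξ_*O`. -/
theorem exists_factor {X Y S : Scheme.{u}} (ξ : X ⟶ S) [IsProper ξ] [Surjective ξ] (f : X ⟶ Y)
    (h0 : ∀ U : S.Opens, Function.Bijective (ξ.app U).hom)
    (hc : ∀ x x' : X, ξ x = ξ x' → f x = f x') : ∃ k : S ⟶ Y, ξ ≫ k = f := by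
  have hall : ∀ s : S, ∃ y : Y, ∀ x : X, ξ x = s → f x = y := fun s => by
    obtain ⟨x, rfl⟩ := ξ.surjective s
    exact ⟨f x, fun x' h => hc x' x h⟩
  choose V hsV hV k hk using fun s : S => exists_isFactor_nhds ξ f h0 s (hall s)
  let 𝒰 := Scheme.openCoverOfIsOpenCover S V (by
    rw [IsOpenCover, eq_top_iff]
    exact fun s _ => Opens.mem_iSup.2 ⟨s, hsV s⟩)
  let kU : S ⟶ Y := 𝒰.glueMorphisms k (fun s t => by
    let P := pullback (𝒰.f s) (𝒰.f t)
    let i : P ⟶ S := pullback.fst (𝒰.f s) (𝒰.f t) ≫ 𝒰.f s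
    let O : S.Opens := i.opensRange
    let e : P ≅ O.toScheme := IsOpenImmersion.isoOfRangeEq i O.ι (by simp [O])
    have he : e.inv ≫ i = O.ι := IsOpenImmersion.isoOfRangeEq_inv_fac _ _ _
    have : Surjective (ξ ∣_ O) := IsZariskiLocalAtTarget.restrict ‹Surjective ξ› O
    have : Epi (ξ ∣_ O) := epi_of_bijective _ (bijective_restrict ξ h0 O)
    rw [← cancel_epi e.inv, ← cancel_epi (ξ ∣_ O)]
    have a1 := hk s (ξ ⁻¹ᵁ O).ι ((ξ ∣_ O) ≫ e.inv ≫ pullback.fst (𝒰.f s) (𝒰.f t)) (by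
      rw [← morphismRestrict_ι, ← he]
      simp only [Category.assoc, i]
      rfl)
    have a2 := hk t (ξ ⁻¹ᵁ O).ι ((ξ ∣_ O) ≫ e.inv ≫ pullback.snd (𝒰.f s) (𝒰.f t)) (by
      rw [← morphismRestrict_ι, ← he]
      simp only [Category.assoc, i, pullback.condition]
      rfl)
    simp only [Category.assoc] at a1 a2
    exact a1.symm.trans a2)
  refine ⟨kU, ?_⟩
  refine Scheme.Cover.hom_ext (Scheme.openCoverOfIsOpenCover X (fun s => ξ ⁻¹ᵁ V s) ?_) _ _ fun s => ?_
  · rw [IsOpenCover, eq_top_iff]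
    exact fun z _ => Opens.mem_iSup.2 ⟨ξ z, hsV _⟩
  · show (ξ ⁻¹ᵁ V s).ι ≫ ξ ≫ kU = (ξ ⁻¹ᵁ V s).ι ≫ f
    rw [← morphismRestrict_ι_assoc, show (V s).ι ≫ kU = k s from 𝒰.ι_glueMorphisms _ _ s]
    exact (hk s _ _ (morphismRestrict_ι ξ (V s)).symm).symm

/-- Proper with `O = f_*O` implies surjective. -/
theorem surjective_of_bijective {X Y : Scheme.{u}} (f : X ⟶ Y) [UniversallyClosed f]
    (hf : ∀ U : Y.Opens, Function.Bijective (f.app U)) : Surjective f := by
  refine ⟨fun y => ?_⟩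
  by_contra h
  let V : Y.Opens := ⟨(Set.range f)ᶜ, f.isClosedMap.isClosed_range.isOpen_compl⟩
  have hy : y ∈ V := h
  have hpre : f ⁻¹ᵁ V = ⊥ := eq_bot_iff.2 fun x hx => (hx ⟨x, rfl⟩).elim
  have : Subsingleton Γ(X, f ⁻¹ᵁ V) := by rw [hpre]; infer_instance
  have : Subsingleton Γ(Y, V) := (hf V).1.subsingleton
  exact zero_ne_one (α := Y.presheaf.stalk y)
    ((map_zero (Y.presheaf.germ V y hy).hom).symm.trans
      ((congrArg _ (Subsingleton.elim 0 1)).trans (map_one (Y.presheaf.germ V y hy).hom)))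

end Groth.Agent.CohDer1.Blanchard
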