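import Groth.Agent.CohDer1.Blanchard.Base
import Groth.Agent.SGA3cLib.GeomConn
import Groth.Prelude.Def_AlgGrp
import Mathlib.AlgebraicGeometry.Morphisms.UniversallyOpen
import Mathlib.AlgebraicGeometry.Geometrically.Connected

/-!
# Blanchard's lemma: actions descend along proper morphisms with `O = f_*O`
-/

set_option autoImplicit false
set_option backward.isDefEq.respectTransparency.types false

universe u

open CategoryTheory Limits MonoidalCategory CartesianMonoidalCategory MonObj GrpObj AlgebraicGeometry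

namespace Groth.Agent.CohDer1.Blanchard

variable {k : Type u} [Field k] {G X Y : Over (Spec (CommRingCat.of k))}

theorem isPullback_whisker (G : Over (Spec (CommRingCat.of k))) (f : X ⟶ Y) :
    IsPullback (snd G X).left (G ◁ f).left f.left (snd G Y).left := by
  have hX : IsPullback (snd G X).left (fst G X).left X.hom G.hom := (IsPullback.of_hasPullback G.hom X.hom).flip
  have hY : IsPullback (snd G Y).left (fst G Y).left Y.hom G.hom := (IsPullback.of_hasPullback G.hom Y.hom).flip
  have e1 : (G ◁ f).left ≫ (fst G Y).left = (fst G X).left := by rw [← Over.comp_left, whiskerLeft_fst]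
  have e2 : f.left ≫ Y.hom = X.hom := Over.w f
  refine IsPullback.of_bot ?_ ?_ hY
  · rw [e1, e2]; exact hX
  · rw [← Over.comp_left, ← Over.comp_left, whiskerLeft_snd]

theorem flat_snd (G Y : Over (Spec (CommRingCat.of k))) : Flat (snd G Y).left :=
  MorphismProperty.pullback_snd (P := @Flat) G.hom Y.hom (CubeLib.flat_of_field _)

variable (f : X ⟶ Y) [IsProper f.left]

theorem isProper_whisker (G : Over (Spec (CommRingCat.of k))) : IsProper (G ◁ f).left :=
  MorphismProperty.of_isPullback (isPullback_whisker G f) ‹IsProper f.left›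

theorem bijective_whisker (hf : ∀ U : Y.left.Opens, Function.Bijective (f.left.app U))
    (G : Over (Spec (CommRingCat.of k))) (U : (G ⊗ Y).left.Opens) : Function.Bijective ((G ◁ f).left.app U) := by
  haveI := flat_snd G Y
  exact bijective_app_of_isPullback (isPullback_whisker G f) hf U

theorem surjective_whisker (hf : ∀ U : Y.left.Opens, Function.Bijective (f.left.app U))
    (G : Over (Spec (CommRingCat.of k))) : Surjective (G ◁ f).left := by
  haveI := surjective_of_bijective f.left hf
  exact MorphismProperty.of_isPullback (isPullback_whisker G f) ‹Surjective f.left›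

theorem epi_of_bijective' (hf : ∀ U : Y.left.Opens, Function.Bijective (f.left.app U)) : Epi f := by
  haveI := surjective_of_bijective f.left hf
  haveI : Epi f.left := S14666.epi_of_bijective f.left hf
  exact Over.epi_of_epi_left f

section Descend

variable [GrpObj G] (a : AlgGrp.Action G X)

/-- set-theoretically constant on fibres ⇒ the action descends. -/
theorem exists_action (hf : ∀ U : Y.left.Opens, Function.Bijective (f.left.app U))
    (hc : ∀ p q : ↥(G ⊗ X).left, (G ◁ f).left.base p = (G ◁ f).left.base q →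
      (a.act ≫ f).left.base p = (a.act ≫ f).left.base q) :
    ∃ b : AlgGrp.Action G Y, (G ◁ f) ≫ b.act = a.act ≫ f := by
  haveI := isProper_whisker f G
  haveI := surjective_whisker f hf G
  obtain ⟨k', hk⟩ := exists_factor (G ◁ f).left (a.act ≫ f).left (bijective_whisker f hf G) hc
  haveI : Epi (G ◁ f).left := S14666.epi_of_bijective _ (bijective_whisker f hf G)
  let b : G ⊗ Y ⟶ Y := Over.homMk k' (by
    rw [← cancel_epi (G ◁ f).left, ← Category.assoc, hk, Over.w, Over.w])
  have hb : (G ◁ f) ≫ b = a.act ≫ f := Over.OverMorphism.ext hk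
  haveI := epi_of_bijective' f hf
  haveI := isProper_whisker f (𝟙_ (Over (Spec (CommRingCat.of k))))
  haveI := epi_of_bijective' ((𝟙_ (Over (Spec (CommRingCat.of k)))) ◁ f) (bijective_whisker f hf _)
  haveI := isProper_whisker f (G ⊗ G)
  haveI := epi_of_bijective' ((G ⊗ G) ◁ f) (bijective_whisker f hf _)
  refine ⟨⟨b, ?_, ?_⟩, hb⟩
  · rw [← cancel_epi ((𝟙_ (Over (Spec (CommRingCat.of k)))) ◁ f), whisker_exchange_assoc, hb,
      ← Category.assoc, a.one_act, leftUnitor_naturality]
  · rw [← cancel_epi ((G ⊗ G) ◁ f), whisker_exchange_assoc, hb, ← Category.assoc, a.mul_act]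
    simp only [Category.assoc]
    rw [reassoc_of% (show ((G ⊗ G) ◁ f) ≫ (α_ G G Y).hom = (α_ G G X).hom ≫ G ◁ (G ◁ f) by simp),
      ← whiskerLeft_comp_assoc G (G ◁ f) b, hb, whiskerLeft_comp, Category.assoc, hb]

theorem act_comp_eq (b : AlgGrp.Action G Y) (hb : (G ◁ f) ≫ b.act = a.act ≫ f)
    {T : Over (Spec (CommRingCat.of k))} (g : T ⟶ G) (x₁ x₂ : T ⟶ X) (h : x₁ ≫ f = x₂ ≫ f) :
    lift g x₁ ≫ a.act ≫ f = lift g x₂ ≫ a.act ≫ f := by
  rw [← hb, ← Category.assoc, ← Category.assoc, lift_whiskerLeft, lift_whiskerLeft, h]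

theorem unique_action (hf : ∀ U : Y.left.Opens, Function.Bijective (f.left.app U))
    (b b' : AlgGrp.Action G Y) (hb : (G ◁ f) ≫ b.act = a.act ≫ f) (hb' : (G ◁ f) ≫ b'.act = a.act ≫ f) :
    b = b' := by
  haveI := isProper_whisker f G
  haveI := epi_of_bijective' (G ◁ f) (bijective_whisker f hf G)
  have h : b.act = b'.act := by rw [← cancel_epi (G ◁ f), hb, hb']
  cases b; cases b'; simp only at h; subst h; rfl

theorem const_of_points
    (h : ∀ (T : Over (Spec (CommRingCat.of k))) (g : T ⟶ G) (x₁ x₂ : T ⟶ X),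
        x₁ ≫ f = x₂ ≫ f → lift g x₁ ≫ a.act ≫ f = lift g x₂ ≫ a.act ≫ f)
    (p q : ↥(G ⊗ X).left) (hpq : (G ◁ f).left.base p = (G ◁ f).left.base q) :
    (a.act ≫ f).left.base p = (a.act ≫ f).left.base q := by
  obtain ⟨z, hz1, hz2⟩ := Scheme.Pullback.exists_preimage_pullback (f := (G ◁ f).left) (g := (G ◁ f).left) p q hpq
  let T : Over (Spec (CommRingCat.of k)) := Over.mk (pullback.fst (G ◁ f).left (G ◁ f).left ≫ (G ⊗ X).hom)
  let u1 : T ⟶ G ⊗ X := Over.homMk (pullback.fst (G ◁ f).left (G ◁ f).left)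
  let u2 : T ⟶ G ⊗ X := Over.homMk (pullback.snd (G ◁ f).left (G ◁ f).left) (by
    show _ = pullback.fst (G ◁ f).left (G ◁ f).left ≫ (G ⊗ X).hom
    rw [← Over.w (G ◁ f), pullback.condition_assoc])
  have hu : u1 ≫ (G ◁ f) = u2 ≫ (G ◁ f) := Over.OverMorphism.ext pullback.condition
  have hg : u1 ≫ fst G X = u2 ≫ fst G X := by
    have := congrArg (· ≫ fst G Y) hu
    simpa using this
  have hx : (u1 ≫ snd G X) ≫ f = (u2 ≫ snd G X) ≫ f := by
    have := congrArg (· ≫ snd G Y) hu
    simpa using this
  have h2 := h T (u1 ≫ fst G X) (u1 ≫ snd G X) (u2 ≫ snd G X) hx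
  have e1 : lift (u1 ≫ fst G X) (u1 ≫ snd G X) = u1 := by rw [← comp_lift, lift_fst_snd, Category.comp_id]
  have e2 : lift (u1 ≫ fst G X) (u2 ≫ snd G X) = u2 := by rw [hg, ← comp_lift, lift_fst_snd, Category.comp_id]
  rw [e1, e2] at h2
  have h3 := congrArg (fun m : T ⟶ Y => m.left.base z) h2
  subst hz1 hz2
  exact h3

end Descend

end Groth.Agent.CohDer1.Blanchard
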