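import Groth.Agent.CohDer1.Blanchard.Action
import Groth.Agent.AlgGrpLib.ConnComp

/-!
# Connected groups send fibres into fibres

No separatedness is used: the set of points of `G × Y` over which `h = f ∘ act` is constant is open and
contains `e × Y`; irreducibility of the base changes of `G` gives a point `u` with `(u g, y)` and `(u⁻¹, y'')` in it.
-/

set_option autoImplicit false
set_option backward.isDefEq.respectTransparency.types false

universe u

open CategoryTheory Limits MonoidalCategory CartesianMonoidalCategory MonObj GrpObj AlgebraicGeometry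

namespace Groth.Agent.CohDer1.Blanchard

variable {k : Type u} [Field k] {G X Y : Over (Spec (CommRingCat.of k))} [GrpObj G] (a : AlgGrp.Action G X) (f : X ⟶ Y)
  [IsProper f.left]

/-- The points of `G × Y` over which `f ∘ act` is constant. -/
def goodSet : Set ↥(G ⊗ Y).left :=
  {t | ∃ y : Y.left, ∀ p : ↥(G ⊗ X).left, (G ◁ f).left.base p = t → (a.act ≫ f).left.base p = y}

theorem isOpen_goodSet (hf : ∀ U : Y.left.Opens, Function.Bijective (f.left.app U)) : IsOpen (goodSet a f) := by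
  haveI := isProper_whisker f G
  haveI := surjective_whisker f hf G
  rw [isOpen_iff_forall_mem_open]
  intro t ht
  obtain ⟨V, htV, hV, -⟩ := S14666.exists_isFactor_nhds (G ◁ f).left (a.act ≫ f).left (bijective_whisker f hf G) t ht
  exact ⟨V, fun s hs => hV s hs, V.isOpen, htV⟩

theorem eq_of_mem_goodSet (hf : ∀ U : Y.left.Opens, Function.Bijective (f.left.app U))
    {T : Over (Spec (CommRingCat.of k))} [Subsingleton ↥T.left] (o : T.left) (g : T ⟶ G) (x₁ x₂ : T ⟶ X)
    (h : x₁ ≫ f = x₂ ≫ f) (hmem : (lift g (x₁ ≫ f)).left.base o ∈ goodSet a f) :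
    lift g x₁ ≫ a.act ≫ f = lift g x₂ ≫ a.act ≫ f := by
  haveI := isProper_whisker f G
  haveI := surjective_whisker f hf G
  obtain ⟨V, hoV, -, k', hk⟩ := S14666.exists_isFactor_nhds (G ◁ f).left (a.act ≫ f).left (bijective_whisker f hf G) _ hmem
  let c : T.left ⟶ V.toScheme := IsOpenImmersion.lift V.ι (lift g (x₁ ≫ f)).left (by
    rintro _ ⟨s, rfl⟩
    rw [Scheme.Opens.range_ι, Subsingleton.elim s o]
    exact hoV)
  have hc : c ≫ V.ι = (lift g (x₁ ≫ f)).left := IsOpenImmersion.lift_fac _ _ _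
  have e1 := hk (lift g x₁).left c (by rw [hc, ← Over.comp_left, lift_whiskerLeft])
  have e2 := hk (lift g x₂).left c (by rw [hc, ← Over.comp_left, lift_whiskerLeft, h])
  exact Over.OverMorphism.ext (by rw [Over.comp_left, Over.comp_left _ _ _ (lift g x₂)]; exact e1.trans e2.symm)

theorem unit_mem_goodSet {T : Over (Spec (CommRingCat.of k))} (o : T.left) (y : T ⟶ Y) :
    (lift (toUnit T ≫ η[G]) y).left.base o ∈ goodSet a f := by
  refine ⟨y.left.base o, fun p hp => ?_⟩
  let e : 𝟙_ (Over (Spec (CommRingCat.of k))) ⟶ G := η[G]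
  have hp1 : (fst G X).left.base p = e.left.base ((toUnit T).left.base o) := by
    have h1 : (G ◁ f) ≫ fst G Y = fst G X := whiskerLeft_fst _ _
    rw [← h1, Over.comp_left, Scheme.Hom.comp_apply, hp]
    exact congrArg (fun m : T ⟶ G => m.left.base o) (lift_fst (toUnit T ≫ e) y)
  obtain ⟨r, hr1, -⟩ := Scheme.Pullback.exists_preimage_pullback (f := (fst G X).left) (g := e.left) p _ hp1
  let R : Over (Spec (CommRingCat.of k)) := Over.mk (pullback.fst (fst G X).left e.left ≫ (G ⊗ X).hom)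
  let i : R ⟶ G ⊗ X := Over.homMk (pullback.fst (fst G X).left e.left)
  let j : R ⟶ 𝟙_ (Over (Spec (CommRingCat.of k))) := Over.homMk (pullback.snd (fst G X).left e.left) (by
    show _ = pullback.fst (fst G X).left e.left ≫ (G ⊗ X).hom
    rw [← Over.w e, ← Over.w (fst G X), pullback.condition_assoc])
  have hij : i ≫ fst G X = j ≫ e := Over.OverMorphism.ext pullback.condition
  let eX : X ⟶ G ⊗ X := lift (toUnit X ≫ e) (𝟙 X)
  have heX : eX ≫ a.act = 𝟙 X := by
    have : eX = (λ_ X).inv ≫ (η[G] ▷ X) := by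
      apply CartesianMonoidalCategory.hom_ext <;> simp [eX, e]
    rw [this, Category.assoc, a.one_act, Iso.inv_hom_id]
  have hi : (i ≫ snd G X) ≫ eX = i := by
    apply CartesianMonoidalCategory.hom_ext
    · rw [hij]; simp [eX, e, toUnit_unique j (toUnit R)]
    · simp [eX]
  have h2 : i ≫ a.act ≫ f = (i ≫ (G ◁ f)) ≫ snd G Y := by
    conv_lhs => rw [← hi]
    rw [Category.assoc (i ≫ snd G X), reassoc_of% heX]
    simp
  have h3 := congrArg (fun m : R ⟶ Y => m.left.base r) h2
  have h4 : (lift (toUnit T ≫ e) y ≫ snd G Y).left.base o = y.left.base o :=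
    congrArg (fun m : T ⟶ Y => m.left.base o) (lift_snd _ _)
  rw [Over.comp_left, Scheme.Hom.comp_apply, show (lift (toUnit T ≫ e) y).left.base o = (G ◁ f).left.base p from hp.symm] at h4
  simp only [Over.comp_left, Scheme.Hom.comp_apply] at h3
  rw [show i.left.base r = p from hr1] at h3
  exact h3.trans h4

theorem irreducibleSpace_fibre [ConnectedSpace ↥G.left] (T : Over (Spec (CommRingCat.of k))) (K : Type u) [Field K]
    (hT : T.left = Spec (CommRingCat.of K)) : IrreducibleSpace ↥(G ⊗ T).left := by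
  have h := AlgGrpLib.ConnComp.isIrreducible_fst_preimage G T K hT
  rw [← AlgGrpLib.ConnComp.connectedComponent_eq G, PreconnectedSpace.connectedComponent_eq_univ,
    Set.preimage_univ] at h
  exact (irreducibleSpace_def _).2 h

theorem const_of_connected [ConnectedSpace ↥G.left] (hf : ∀ U : Y.left.Opens, Function.Bijective (f.left.app U))
    (p q : ↥(G ⊗ X).left) (hpq : (G ◁ f).left.base p = (G ◁ f).left.base q) :
    (a.act ≫ f).left.base p = (a.act ≫ f).left.base q := by
  haveI := isProper_whisker f G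
  obtain ⟨z, hz1, hz2⟩ := Scheme.Pullback.exists_preimage_pullback (f := (G ◁ f).left) (g := (G ◁ f).left) p q hpq
  let P := pullback (G ◁ f).left (G ◁ f).left
  let T : Over (Spec (CommRingCat.of k)) :=
    Over.mk ((P.fromSpecResidueField z ≫ pullback.fst (G ◁ f).left (G ◁ f).left) ≫ (G ⊗ X).hom)
  let u₁ : T ⟶ G ⊗ X := Over.homMk (P.fromSpecResidueField z ≫ pullback.fst (G ◁ f).left (G ◁ f).left)
  let u₂ : T ⟶ G ⊗ X := Over.homMk (P.fromSpecResidueField z ≫ pullback.snd (G ◁ f).left (G ◁ f).left) (by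
    show _ = (P.fromSpecResidueField z ≫ pullback.fst (G ◁ f).left (G ◁ f).left) ≫ (G ⊗ X).hom
    rw [← Over.w (G ◁ f)]
    simp only [Category.assoc, pullback.condition_assoc])
  have hu : u₁ ≫ (G ◁ f) = u₂ ≫ (G ◁ f) := Over.OverMorphism.ext (by
    show (P.fromSpecResidueField z ≫ pullback.fst _ _) ≫ (G ◁ f).left = (P.fromSpecResidueField z ≫ pullback.snd _ _) ≫ (G ◁ f).left
    simp only [Category.assoc, pullback.condition])
  set g := u₁ ≫ fst G X with hgdef
  have hg : u₂ ≫ fst G X = g := by simpa using (congrArg (· ≫ fst G Y) hu).symm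
  set x₁ := u₁ ≫ snd G X with hx₁
  set x₂ := u₂ ≫ snd G X with hx₂
  have hx : x₁ ≫ f = x₂ ≫ f := by simpa [hx₁, hx₂] using congrArg (· ≫ snd G Y) hu
  have hu₁ : u₁ = lift g x₁ := by rw [← comp_lift, lift_fst_snd, Category.comp_id]
  have hu₂ : u₂ = lift g x₂ := by rw [hx₂, ← hg, ← comp_lift, lift_fst_snd, Category.comp_id]
  obtain ⟨s⟩ : Nonempty ↥T.left := inferInstanceAs (Nonempty (PrimeSpectrum (P.residueField z)))
  haveI := irreducibleSpace_fibre (G := G) T (P.residueField z) rfl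
  -- two open conditions on a point `u` of `G × T`
  let x' : T ⟶ X := lift g x₁ ≫ a.act
  let j₁ : G ⊗ T ⟶ G ⊗ Y := lift (fst G T * (snd G T ≫ g)) (snd G T ≫ x₁ ≫ f)
  let j₂ : G ⊗ T ⟶ G ⊗ Y := lift (fst G T)⁻¹ (lift (fst G T) (snd G T ≫ x') ≫ a.act ≫ f)
  have n₁ : (j₁.left.base ⁻¹' goodSet a f).Nonempty := by
    refine ⟨(lift g⁻¹ (𝟙 T)).left.base s, ?_⟩
    show (lift g⁻¹ (𝟙 T) ≫ j₁).left.base s ∈ goodSet a f
    have : lift g⁻¹ (𝟙 T) ≫ j₁ = lift (toUnit T ≫ η[G]) (x₁ ≫ f) := by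
      simp [j₁, MonObj.comp_mul, ← Hom.one_def]
    rw [this]
    exact unit_mem_goodSet a f s _
  have n₂ : (j₂.left.base ⁻¹' goodSet a f).Nonempty := by
    refine ⟨(lift (1 : T ⟶ G) (𝟙 T)).left.base s, ?_⟩
    show (lift (1 : T ⟶ G) (𝟙 T) ≫ j₂).left.base s ∈ goodSet a f
    have : lift (1 : T ⟶ G) (𝟙 T) ≫ j₂ = lift (toUnit T ≫ η[G]) (lift (1 : T ⟶ G) x' ≫ a.act ≫ f) := by
      apply CartesianMonoidalCategory.hom_ext
      · simp [j₂, GrpObj.comp_inv, ← Hom.one_def]
      · simp [j₂, comp_lift_assoc]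
    rw [this]
    exact unit_mem_goodSet a f s _
  obtain ⟨w, hw₁, hw₂⟩ := nonempty_preirreducible_inter ((isOpen_goodSet a f hf).preimage j₁.left.continuous)
    ((isOpen_goodSet a f hf).preimage j₂.left.continuous) n₁ n₂
  let L : Over (Spec (CommRingCat.of k)) := Over.mk ((G ⊗ T).left.fromSpecResidueField w ≫ (G ⊗ T).hom)
  let l : L ⟶ G ⊗ T := Over.homMk ((G ⊗ T).left.fromSpecResidueField w)
  haveI : Subsingleton ↥L.left := inferInstanceAs (Subsingleton (PrimeSpectrum ((G ⊗ T).left.residueField w)))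
  obtain ⟨o⟩ : Nonempty ↥L.left := inferInstanceAs (Nonempty (PrimeSpectrum ((G ⊗ T).left.residueField w)))
  have hlo : l.left.base o = w := Scheme.fromSpecResidueField_apply _ _
  set u := l ≫ fst G T with hudef
  set v := l ≫ snd G T with hvdef
  have hmul : ∀ (b c : L ⟶ G) (x : L ⟶ X), lift (b * c) x ≫ a.act = lift b (lift c x ≫ a.act) ≫ a.act := by
    intro b c x
    have h1 : lift (b * c) x = lift (lift b c) x ≫ (μ[G] ▷ X) := by
      rw [lift_whiskerRight, Hom.mul_def]
    rw [h1, Category.assoc, a.mul_act]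
    simp
  have hinv : ∀ (b : L ⟶ G) (x : L ⟶ X), lift b⁻¹ (lift b x ≫ a.act) ≫ a.act = x := by
    intro b x
    rw [← hmul, inv_mul_cancel]
    have h1 : lift (1 : L ⟶ G) x = x ≫ (λ_ X).inv ≫ (η[G] ▷ X) := by
      apply CartesianMonoidalCategory.hom_ext
      · simp [Hom.one_def]
      · simp
    rw [h1, Category.assoc, Category.assoc, a.one_act, Iso.inv_hom_id, Category.comp_id]
  have E1 : lift (u * (v ≫ g)) (v ≫ x₁) ≫ a.act ≫ f = lift (u * (v ≫ g)) (v ≫ x₂) ≫ a.act ≫ f := by
    refine eq_of_mem_goodSet a f hf o _ _ _ (by simp only [hvdef, Category.assoc, hx]) ?_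
    have : lift (u * (v ≫ g)) ((v ≫ x₁) ≫ f) = l ≫ j₁ := by
      simp [j₁, hudef, hvdef, MonObj.comp_mul]
    rw [this, Over.comp_left, Scheme.Hom.comp_apply, hlo]
    exact hw₁
  let z₁ : L ⟶ X := lift (u * (v ≫ g)) (v ≫ x₁) ≫ a.act
  let z₂ : L ⟶ X := lift (u * (v ≫ g)) (v ≫ x₂) ≫ a.act
  have E2 : lift u⁻¹ z₁ ≫ a.act ≫ f = lift u⁻¹ z₂ ≫ a.act ≫ f := by
    refine eq_of_mem_goodSet a f hf o _ _ _ (by simpa [z₁, z₂] using E1) ?_
    have : lift u⁻¹ (z₁ ≫ f) = l ≫ j₂ := by
      simp only [z₁, hmul]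
      simp [j₂, x', hudef, hvdef, GrpObj.comp_inv, comp_lift_assoc]
    rw [this, Over.comp_left, Scheme.Hom.comp_apply, hlo]
    exact hw₂
  have E3 : v ≫ (lift g x₁ ≫ a.act ≫ f) = v ≫ (lift g x₂ ≫ a.act ≫ f) := by
    have key : ∀ x : T ⟶ X, v ≫ (lift g x ≫ a.act ≫ f) = lift u⁻¹ (lift (u * (v ≫ g)) (v ≫ x) ≫ a.act) ≫ a.act ≫ f := by
      intro x
      rw [← Category.assoc (lift u⁻¹ _), hmul, hinv, Category.assoc, comp_lift_assoc]
      try simp [hvdef, comp_lift_assoc]
    rw [key, key]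
    exact E2
  haveI : Subsingleton ↥T.left := inferInstanceAs (Subsingleton (PrimeSpectrum (P.residueField z)))
  have this := congrArg (fun m : L ⟶ Y => m.left.base o) E3
  simp only [Over.comp_left, Scheme.Hom.comp_apply] at this
  rw [← hu₁, ← hu₂, Subsingleton.elim (v.left.base o) s] at this
  have e₁ : u₁.left.base s = p := by
    show (P.fromSpecResidueField z ≫ pullback.fst (G ◁ f).left (G ◁ f).left).base s = p
    rw [Scheme.Hom.comp_apply, Scheme.fromSpecResidueField_apply]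
    exact hz1
  have e₂ : u₂.left.base s = q := by
    show (P.fromSpecResidueField z ≫ pullback.snd (G ◁ f).left (G ◁ f).left).base s = q
    rw [Scheme.Hom.comp_apply, Scheme.fromSpecResidueField_apply]
    exact hz2
  rw [e₁, e₂] at this
  simpa [Over.comp_left, Scheme.Hom.comp_apply] using this

end Groth.Agent.CohDer1.Blanchard
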